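import Groth.Agent.Lib.HopfEtale20.Basic
import Groth.Agent.Lib.Weight4.Constr
import Mathlib.RingTheory.QuasiFinite.Basic
import Mathlib.RingTheory.Spectrum.Prime.Chevalley
import Mathlib.RingTheory.LocalRing.Module
import Mathlib.RingTheory.Nilpotent.Lemmas

/-!
# Quasi-finite commutative groups are torsion
-/

universe u

open TensorProduct Coalgebra WithConv Topology

namespace Groth.Agent.QFTorsion

variable {R : Type u} [CommRing R] {C : Type u} [CommRing C] [HopfAlgebra R C]

theorem apply_pow {T : Type u} [CommRing T] [Algebra R T] (g : C →ₐ[R] T) (n : ℕ) :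
    (toConv g ^ n).ofConv = g.comp ((toConv (AlgHom.id R C)) ^ n).ofConv := by
  induction n with
  | zero => exact AlgHom.ext fun x => by simp
  | succ n ih => rw [pow_succ, pow_succ, AlgHom.comp_convMul_distrib, ← ih]; rfl

theorem eq_one_of_forall_mem {T : Type u} [CommRing T] [Algebra R T] (g : C →ₐ[R] T) (s : Set C)
    (hs : Algebra.adjoin R s = ⊤) (h : ∀ x ∈ s, g x = algebraMap R T (counit (R := R) x)) : toConv g = 1 := by
  refine ofConv_injective (AlgHom.ext_of_adjoin_eq_top hs fun x hx => ?_)
  rw [ofConv_toConv, AlgHom.convOne_apply]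
  exact h x hx

theorem isNilpotent_apply_sub (g : C →ₐ[R] C) (s : Set C) (hs : Algebra.adjoin R s = ⊤)
    (h : ∀ x ∈ s, IsNilpotent (g x - algebraMap R C (counit (R := R) x))) (c : C) :
    IsNilpotent (g c - algebraMap R C (counit (R := R) c)) := by
  let q := Ideal.Quotient.mkₐ R (nilradical C)
  have e : ∀ x, q (g x) = q (algebraMap R C (counit (R := R) x)) ↔
      IsNilpotent (g x - algebraMap R C (counit (R := R) x)) := fun x => by
    rw [← sub_eq_zero, ← map_sub, ← mem_nilradical]
    exact Ideal.Quotient.eq_zero_iff_mem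
  refine (e c).1 ?_
  have := eq_one_of_forall_mem (q.comp g) s hs fun x hx => by
    rw [AlgHom.comp_apply, (e x).2 (h x hx), AlgHom.commutes]
  rw [AlgHom.commutes]
  exact (DFunLike.congr_fun (congrArg ofConv this) c).trans (AlgHom.convOne_apply c)

/-- A derivation at the unit section dies on a finite fibre of invertible order. -/
theorem baseChange_eq_zero (κ : Type u) [Field κ] [Algebra R κ] [Module.Finite κ (κ ⊗[R] C)]
    {N : Type u} [AddCommGroup N] [Module R N] (D : C →ₗ[R] N)
    (hmul : ∀ x y, D (x * y) = counit (R := R) x • D y + counit (R := R) y • D x) (h1 : D 1 = 0)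
    (hd : (Module.finrank κ (κ ⊗[R] C) : κ) ≠ 0) (z : κ ⊗[R] C) : D.baseChange κ z = 0 := by
  have hLeib : ∀ z w : κ ⊗[R] C, D.baseChange κ (z * w) =
      counit (R := κ) z • D.baseChange κ w + counit (R := κ) w • D.baseChange κ z := by
    intro z w
    induction z using TensorProduct.induction_on with
    | zero => simp
    | add a b ha hb => simp only [add_mul, map_add, ha, hb, add_smul, smul_add]; abel
    | tmul a x =>
      induction w using TensorProduct.induction_on with
      | zero => simp
      | add c e hc he => simp only [mul_add, map_add, hc, he, add_smul, smul_add]; abel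
      | tmul b y =>
        rw [Algebra.TensorProduct.tmul_mul_tmul, LinearMap.baseChange_tmul, LinearMap.baseChange_tmul,
          LinearMap.baseChange_tmul, hmul, TensorProduct.tmul_add, TensorProduct.tmul_smul,
          TensorProduct.tmul_smul, TensorProduct.smul_tmul', TensorProduct.smul_tmul',
          TensorProduct.counit_tmul, TensorProduct.counit_tmul]
        simp [TensorProduct.smul_tmul', Algebra.smul_def, mul_comm, mul_left_comm, mul_assoc]
  have hsq : ∀ z ∈ RingHom.ker (Bialgebra.counitAlgHom κ (κ ⊗[R] C)) ^ 2, D.baseChange κ z = 0 := by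
    intro z hz
    rw [pow_two] at hz
    refine Submodule.mul_induction_on hz (fun a ha b hb => ?_) fun a b ha hb => by rw [map_add, ha, hb, add_zero]
    rw [hLeib, show counit (R := κ) a = 0 from ha, show counit (R := κ) b = 0 from hb, zero_smul, zero_smul,
      add_zero]
  have hone : D.baseChange κ (1 : κ ⊗[R] C) = 0 := by
    rw [Algebra.TensorProduct.one_def, LinearMap.baseChange_tmul, h1, TensorProduct.tmul_zero]
  have h := HopfEtale.pow_sub_counit_mem (k := κ) (A := κ ⊗[R] C) (Module.finrank κ (κ ⊗[R] C)) z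
  rw [FinGrp.convPow_finrank_eq_one κ (κ ⊗[R] C), AlgHom.convOne_apply, sub_self, zero_sub, neg_mem_iff] at h
  have h2 := hsq _ h
  rw [map_nsmul, map_sub, Algebra.algebraMap_eq_smul_one, map_smul, hone, smul_zero, sub_zero,
    ← Nat.cast_smul_eq_nsmul κ] at h2
  exact (smul_eq_zero.1 h2).resolve_left hd

/-- An integer annihilating the cotangent space along the unit section. -/
theorem exists_nat_smul_mem_sq [Algebra.FinitePresentation R C] [Algebra.QuasiFinite R C] :
    ∃ M : ℕ, 0 < M ∧ ∀ c : C, M • (c - algebraMap R C (counit (R := R) c)) ∈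
      RingHom.ker (Bialgebra.counitAlgHom R C) ^ 2 := by
  classical
  set I := RingHom.ker (Bialgebra.counitAlgHom R C)
  let π := Ideal.Quotient.mkₐ R (I ^ 2)
  let D : C →ₗ[R] C ⧸ I ^ 2 :=
    π.toLinearMap - (Algebra.linearMap R (C ⧸ I ^ 2)) ∘ₗ (counit (R := R) (A := C))
  have hD : ∀ c, D c = π (c - algebraMap R C (counit (R := R) c)) := fun c => by
    simp [D]
  have hD0 : ∀ r, D (algebraMap R C r) = 0 := fun r => by rw [hD]; simp
  have hmul : ∀ x y, D (x * y) = counit (R := R) x • D y + counit (R := R) y • D x := fun x y => by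
    rw [hD, hD, hD, ← map_smul, ← map_smul, ← map_add]
    refine (Ideal.Quotient.eq (I := I ^ 2)).2 ?_
    have h : (x - algebraMap R C (counit (R := R) x)) * (y - algebraMap R C (counit (R := R) y)) ∈ I ^ 2 := by
      rw [pow_two]
      exact Ideal.mul_mem_mul (by simp [I]) (by simp [I])
    convert h using 1
    simp only [Bialgebra.counit_mul, map_mul, Algebra.smul_def]
    ring
  obtain ⟨s, hs⟩ := Algebra.FiniteType.out (R := R) (A := C)
  let N := LinearMap.range D
  haveI : Module.Finite R N := by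
    refine Module.Finite.iff_fg.2 ⟨s.image D, le_antisymm (Submodule.span_le.2 ?_) ?_⟩
    · intro z hz
      obtain ⟨x, -, rfl⟩ := Finset.mem_image.1 (Finset.mem_coe.1 hz)
      exact ⟨x, rfl⟩
    · rintro _ ⟨c, rfl⟩
      have hc : c ∈ Algebra.adjoin R (s : Set C) := hs ▸ Algebra.mem_top
      induction hc using Algebra.adjoin_induction with
      | mem x hx => exact Submodule.subset_span (Finset.mem_coe.2 (Finset.mem_image_of_mem _ hx))
      | algebraMap r => rw [hD0]; exact zero_mem _
      | add x y _ _ hx hy => rw [map_add]; exact add_mem hx hy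
      | mul x y _ _ hx hy =>
        rw [hmul]
        exact add_mem (Submodule.smul_mem _ _ hy) (Submodule.smul_mem _ _ hx)
  have hpos : ∀ P : PrimeSpectrum R, P ∈ Module.support R N → ∃ n : ℕ, 0 < n ∧ (n : R) ∈ P.asIdeal := by
    intro P hP
    by_contra hne
    rw [Module.mem_support_iff_nontrivial_residueField_tensorProduct] at hP
    refine not_subsingleton_iff_nontrivial.2 hP ?_
    let κ := P.asIdeal.ResidueField
    let F := κ ⊗[R] C
    haveI : Module.Finite κ F := Algebra.QuasiFinite.finite_fiber P.asIdeal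
    haveI : Nontrivial F := Bialgebra.nontrivial κ
    set d := Module.finrank κ F
    have hd : (d : κ) ≠ 0 := by
      intro h0
      refine hne ⟨d, Module.finrank_pos, ?_⟩
      rw [← Ideal.algebraMap_residueField_eq_zero, map_natCast]
      exact h0
    let D' : C →ₗ[R] N := D.rangeRestrict
    have hz : ∀ z : P.asIdeal.ResidueField ⊗[R] C, D'.baseChange P.asIdeal.ResidueField z = 0 :=
      baseChange_eq_zero P.asIdeal.ResidueField D' (fun x y => Subtype.ext (hmul x y))
        (Subtype.ext (by show D 1 = 0; rw [← map_one (algebraMap R C)]; exact hD0 1)) hd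
    refine subsingleton_of_forall_eq 0 fun z => ?_
    induction z using TensorProduct.induction_on with
    | zero => rfl
    | add a b ha hb => rw [ha, hb, add_zero]
    | tmul a n =>
      obtain ⟨_, c, rfl⟩ := n
      have := hz (a ⊗ₜ[R] c)
      rwa [LinearMap.baseChange_tmul] at this
  let S : Submonoid R := (Submonoid.map (Nat.castRingHom R).toMonoidHom (nonZeroDivisors ℕ))
  have hex : ∃ n : ℕ, 0 < n ∧ (n : R) ∈ Module.annihilator R N := by
    by_contra hne
    have hdisj : Disjoint (Module.annihilator R N : Set R) S := by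
      rw [Set.disjoint_left]
      rintro _ hx ⟨n, hn, rfl⟩
      exact hne ⟨n, Nat.pos_of_ne_zero (nonZeroDivisors.ne_zero hn), hx⟩
    obtain ⟨P, hP, hle, hd⟩ := Ideal.exists_le_prime_disjoint _ S hdisj
    obtain ⟨n, hn, hnP⟩ := hpos ⟨P, hP⟩ (by
      rw [Module.support_eq_zeroLocus]
      exact hle)
    exact Set.disjoint_left.1 hd hnP ⟨n, mem_nonZeroDivisors_of_ne_zero hn.ne', rfl⟩
  obtain ⟨n, hn, hann⟩ := hex
  refine ⟨n, hn, fun c => ?_⟩
  have h := congrArg Subtype.val ((Module.mem_annihilator.1 hann) (D.rangeRestrict c))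
  rw [← Ideal.Quotient.eq_zero_iff_mem]
  show π (n • (c - _)) = 0
  rw [map_nsmul, ← hD, ← Nat.cast_smul_eq_nsmul R]
  exact h

/-- Uniform killing of all fibres. -/
theorem exists_forall_isNilpotent [Algebra.FinitePresentation R C] [Algebra.QuasiFinite R C] :
    ∃ n : ℕ, 0 < n ∧ ∀ c : C,
      IsNilpotent ((toConv (AlgHom.id R C) ^ n).ofConv c - algebraMap R C (counit (R := R) c)) := by
  classical
  obtain ⟨s, hs⟩ := Algebra.FiniteType.out (R := R) (A := C)
  let δ : ℕ → C → C := fun n x => (toConv (AlgHom.id R C) ^ n).ofConv x - algebraMap R C (counit (R := R) x)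
  let bad : ℕ → Set (PrimeSpectrum R) := fun n =>
    PrimeSpectrum.comap (algebraMap R C) '' ⋃ x ∈ s, (PrimeSpectrum.basicOpen (δ n x) : Set (PrimeSpectrum C))
  have hbad : ∀ n, IsConstructible (bad n) := fun n =>
    PrimeSpectrum.isConstructible_comap_image (RingHom.finitePresentation_algebraMap.2 inferInstance)
      (IsConstructible.biUnion s.finite_toSet fun x _ => PrimeSpectrum.isConstructible_basicOpen)
  have hpow : ∀ (Q : Ideal C), ∀ n l, (∀ x ∈ s, δ n x ∈ Q) → ∀ x ∈ s, δ (n * l) x ∈ Q := by
    intro Q n l h x hx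
    let q := Ideal.Quotient.mkₐ R Q
    have h1 : toConv (q.comp (toConv (AlgHom.id R C) ^ n).ofConv) = 1 :=
      eq_one_of_forall_mem _ _ hs fun y hy => by
        rw [AlgHom.comp_apply, ← q.commutes]
        exact Ideal.Quotient.eq.2 (h y hy)
    rw [← apply_pow q n, toConv_ofConv] at h1
    have h2 : (toConv q ^ (n * l)).ofConv = (1 : WithConv (C →ₐ[R] C ⧸ Q)).ofConv := by rw [pow_mul, h1, one_pow]
    rw [apply_pow] at h2
    have h3 := DFunLike.congr_fun h2 x
    rw [AlgHom.convOne_apply, ← q.commutes] at h3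
    exact Ideal.Quotient.eq.1 h3
  have hcov : Set.univ ⊆ ⋃ n : {n : ℕ // 0 < n}, (bad n.1)ᶜ := by
    intro P _
    let κ := P.asIdeal.ResidueField
    haveI : Module.Finite κ (κ ⊗[R] C) := Algebra.QuasiFinite.finite_fiber P.asIdeal
    haveI : Nontrivial (κ ⊗[R] C) := Bialgebra.nontrivial κ
    refine Set.mem_iUnion.2 ⟨⟨Module.finrank κ (κ ⊗[R] C), Module.finrank_pos⟩, ?_⟩
    rintro ⟨Q, hQ, hQP⟩
    obtain ⟨x, hx, hxQ⟩ := Set.mem_iUnion₂.1 hQ
    refine hxQ ?_
    let φ : κ ⊗[R] C →ₐ[R] Q.asIdeal.ResidueField :=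
      Algebra.TensorProduct.lift
        (Ideal.ResidueField.mapₐ P.asIdeal Q.asIdeal (Algebra.ofId R C) (congrArg PrimeSpectrum.asIdeal hQP).symm)
        (IsScalarTower.toAlgHom R C Q.asIdeal.ResidueField) fun _ _ => Commute.all _ _
    have h := OT.powId_one_tmul (R := R) (S := κ) (Module.finrank κ (κ ⊗[R] C)) x
    rw [FinGrp.convPow_finrank_eq_one κ (κ ⊗[R] C), AlgHom.convOne_apply, OT.counit_one_tmul] at h
    have h2 := congrArg φ h
    rw [← IsScalarTower.algebraMap_apply, AlgHom.commutes, Algebra.TensorProduct.lift_tmul, map_one, one_mul] at h2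
    show δ _ x ∈ Q.asIdeal
    rw [← Ideal.algebraMap_residueField_eq_zero, map_sub, sub_eq_zero, ← IsScalarTower.algebraMap_apply]
    exact h2.symm
  obtain ⟨t, ht⟩ := Weight.exists_finset_cover (Z := PrimeSpectrum R) IsConstructible.univ _
    (fun n : {n : ℕ // 0 < n} => (hbad n.1).compl) hcov
  refine ⟨∏ n ∈ t, n.1, Finset.prod_pos fun n _ => n.2, fun c => isNilpotent_apply_sub _ _ hs (fun x hx => ?_) c⟩
  rw [nilpotent_iff_mem_prime]
  intro Q hQ
  obtain ⟨n, hn, hnQ⟩ := Set.mem_iUnion₂.1 (ht (Set.mem_univ (PrimeSpectrum.comap (algebraMap R C) ⟨Q, hQ⟩)))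
  rw [← Finset.mul_prod_erase t _ hn]
  refine hpow Q n.1 _ (fun y hy => ?_) x hx
  by_contra hyQ
  exact hnQ ⟨⟨Q, hQ⟩, Set.mem_iUnion₂.2 ⟨y, hy, hyQ⟩, rfl⟩

/-- A quasi-finite group scheme of finite presentation is killed by a positive integer. -/
theorem exists_pow_eq_one [Algebra.FinitePresentation R C] [Algebra.QuasiFinite R C] :
    ∃ n : ℕ, 0 < n ∧ toConv (AlgHom.id R C) ^ n = 1 := by
  classical
  obtain ⟨n₀, hn₀, hnil⟩ := exists_forall_isNilpotent (R := R) (C := C)
  obtain ⟨M, hM, hsq⟩ := exists_nat_smul_mem_sq (R := R) (C := C)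
  set I := RingHom.ker (Bialgebra.counitAlgHom R C)
  let g : ℕ → C →ₐ[R] C := fun j => (toConv (AlgHom.id R C) ^ (n₀ * M ^ j)).ofConv
  have hI : ∀ c, c - algebraMap R C (counit (R := R) c) ∈ I := fun c => by simp [I]
  have hfg : I.FG := by
    obtain ⟨s, hs⟩ := Algebra.FiniteType.out (R := R) (A := C)
    refine ⟨s.image fun x => x - algebraMap R C (counit (R := R) x), le_antisymm (Ideal.span_le.2 ?_) ?_⟩
    · intro z hz
      obtain ⟨x, -, rfl⟩ := Finset.mem_image.1 (Finset.mem_coe.1 hz)
      exact hI x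
    · intro c hc
      let J := Ideal.span ((s.image fun x => x - algebraMap R C (counit (R := R) x) : Finset C) : Set C)
      have h := eq_one_of_forall_mem (Ideal.Quotient.mkₐ R J) _ hs fun x hx => by
        rw [← (Ideal.Quotient.mkₐ R J).commutes]
        exact Ideal.Quotient.eq.2 (Ideal.subset_span (Finset.mem_coe.2 (Finset.mem_image_of_mem _ hx)))
      have h1 := DFunLike.congr_fun (congrArg ofConv h) c
      rw [AlgHom.convOne_apply, show counit (R := R) c = 0 from hc, map_zero] at h1
      exact Ideal.Quotient.eq_zero_iff_mem.1 h1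
  have hle : ∀ j, I.map (g j) ≤ I.map (g 0) ^ (2 ^ j) := by
    intro j
    induction j with
    | zero => simp
    | succ j ih =>
      refine Ideal.map_le_iff_le_comap.2 fun c hc => ?_
      have hg : g (j + 1) c = g j ((toConv (AlgHom.id R C) ^ M).ofConv c) := by
        show (toConv (AlgHom.id R C) ^ (n₀ * M ^ (j + 1))).ofConv c = _
        rw [pow_succ M, ← mul_assoc, pow_mul]
        exact DFunLike.congr_fun (apply_pow (g j) M) c
      show g (j + 1) c ∈ I.map (g 0) ^ (2 ^ (j + 1))
      have hpm := HopfEtale.pow_sub_counit_mem (k := R) (A := C) M c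
      have hc0 : counit (R := R) c = 0 := hc
      rw [hc0, map_zero, sub_zero, sub_zero] at hpm
      have hmem : (toConv (AlgHom.id R C) ^ M).ofConv c ∈ I ^ 2 := by
        have h := hsq c
        rw [hc0, map_zero, sub_zero] at h
        exact (Submodule.sub_mem_iff_left _ h).1 hpm
      have h2 := Ideal.mem_map_of_mem (g j) hmem
      rw [Ideal.map_pow] at h2
      rw [hg, pow_succ, pow_mul]
      exact Ideal.pow_right_mono ih 2 h2
  obtain ⟨m, hm⟩ : IsNilpotent (I.map (g 0)) := by
    refine Ideal.FG.isNilpotent_iff_le_nilradical (hfg.map _) |>.2 (Ideal.map_le_iff_le_comap.2 fun c hc => ?_)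
    show g 0 c ∈ nilradical C
    rw [mem_nilradical]
    have h := hnil c
    rw [show counit (R := R) c = 0 from hc, map_zero, sub_zero] at h
    simpa [g] using h
  refine ⟨n₀ * M ^ m, Nat.mul_pos hn₀ (pow_pos hM m), ofConv_injective (AlgHom.ext fun c => ?_)⟩
  have h := hle m (Ideal.mem_map_of_mem (g m) (hI c))
  have h0 : I.map (g 0) ^ (2 ^ m) = ⊥ := by
    refine le_bot_iff.1 ((Ideal.pow_le_pow_right ?_).trans hm.le)
    exact (Nat.lt_pow_self one_lt_two).le
  rw [h0, Ideal.mem_bot, map_sub, AlgHom.commutes, sub_eq_zero] at h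
  rw [AlgHom.convOne_apply]
  exact h

end Groth.Agent.QFTorsion
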